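import Groth.Agent.Lib.ModGen6.Gen
import Groth.Agent.Lib.ExtShriek24.Iso
import Groth.Agent.Lib.Constr24.FiniteStrata
import Groth.Agent.Lib.SplitCover25.Main
import Groth.Agent.Lib.LocConstGen24.Hom
import Groth.Agent.Lib.EtPic3.Basic
import Groth.Prelude.Def_EtModD2

/-! Extension by zero of the constant sheaf of modules: base change, split case, local constancy. -/

universe u

open CategoryTheory CategoryTheory.Limits AlgebraicGeometry Opposite Topology

namespace Groth.Agent.ModGen6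

open Groth.Agent.EtModEps19 Groth.Agent.EtStalk

set_option autoImplicit false
set_option backward.isDefEq.respectTransparency false
set_option backward.isDefEq.respectTransparency.types false
set_option linter.style.haveILetI false
set_option linter.unusedSectionVars false
set_option maxHeartbeats 800000

variable {Λ : Type (u + 1)} [CommRing Λ] {X : Scheme.{u}}

section BaseChange

variable {V' V Y : Scheme.{u}} (j : V ⟶ X) [Etale j] [EtShriek.JCont j] (f : Y ⟶ X) (j' : V' ⟶ Y) [Etale j']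
  [EtShriek.JCont j'] (f' : V' ⟶ V) (h : IsPullback j' f' f j)

/-- Direct image commutes with restriction. -/
noncomputable def restrPushMod :
    EtSix.restrMod Λ j' ⋙ EtModW.push Λ f' ≅ EtModW.push Λ f ⋙ EtSix.restrMod Λ j :=
  NatIso.ofComponents
    (fun G => (fullyFaithfulSheafToPresheaf _ _).preimageIso
      (Functor.isoWhiskerRight (NatIso.op (ExtShriek24.siteExchange j f j' f' h)) G.obj))
    (fun {G G'} a => Sheaf.hom_ext (NatTrans.ext (funext fun W =>
      (a.hom.naturality ((ExtShriek24.siteExchange j f j' f' h).hom.app W.unop).op).symm)))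

/-- Extension by zero commutes with inverse image. -/
noncomputable def extZeroBCMod :
    EtModW.pull Λ f' ⋙ EtSix.extZeroMod Λ j' ≅ EtSix.extZeroMod Λ j ⋙ EtModW.pull Λ f :=
  (((LocConstGen24.adjA (ModuleCat.{u + 1} Λ) f').comp (EtSix.extZeroModAdj Λ j')).ofNatIsoRight
    (restrPushMod j f j' f' h)).leftAdjointUniq
      ((EtSix.extZeroModAdj Λ j).comp (LocConstGen24.adjA (ModuleCat.{u + 1} Λ) f))

end BaseChange

section Comp

variable {U V : Scheme.{u}} (k : V ⟶ U) (j : U ⟶ X) [Etale k] [Etale j] [EtShriek.JCont k] [EtShriek.JCont j]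
  (l : V ⟶ X) [Etale l] [EtShriek.JCont l]

/-- Restriction along a composite. -/
noncomputable def restrCompMod (w : k ≫ j = l) :
    EtSix.restrMod Λ j ⋙ EtSix.restrMod Λ k ≅ EtSix.restrMod Λ l :=
  NatIso.ofComponents
    (fun G => (fullyFaithfulSheafToPresheaf _ _).preimageIso
      (Functor.isoWhiskerRight (NatIso.op (ExtShriek24.compEtaleComp k j l w)).symm G.obj))
    (fun {G G'} a => Sheaf.hom_ext (NatTrans.ext (funext fun W =>
      (a.hom.naturality ((ExtShriek24.compEtaleComp k j l w).inv.app W.unop).op).symm)))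

/-- Extension by zero along a composite. -/
noncomputable def extZeroCompMod (w : k ≫ j = l) :
    EtSix.extZeroMod Λ k ⋙ EtSix.extZeroMod Λ j ≅ EtSix.extZeroMod Λ l :=
  ((EtSix.extZeroModAdj Λ k).comp (EtSix.extZeroModAdj Λ j)).leftAdjointUniq
    ((EtSix.extZeroModAdj Λ l).ofNatIsoRight (restrCompMod k j l w).symm)

end Comp

section Gen

variable {U : Scheme.{u}} (j : U ⟶ X) [Etale j] [EtShriek.JCont j]

/-- The generator. -/
noncomputable def gen :
    ((EtSix.extZeroMod Λ j).obj (EtSix.constΛ Λ U)).obj.obj (op ((EtShriek.compEtale j).obj (EtCoh.top U))) :=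
  ((constantSheafAdj U.smallEtaleTopology (ModuleCat.{u + 1} Λ) (EtColim.isTerminalTop' U)).comp
    (EtSix.extZeroModAdj Λ j)).unit.app (ModuleCat.of Λ Λ) (1 : Λ)

theorem extZero_hom_ext {G : EtModW.Mod Λ X} {φ ψ : (EtSix.extZeroMod Λ j).obj (EtSix.constΛ Λ U) ⟶ G}
    (h : φ.hom.app (op _) (gen j) = ψ.hom.app (op _) (gen j)) : φ = ψ := by
  apply (((constantSheafAdj U.smallEtaleTopology (ModuleCat.{u + 1} Λ) (EtColim.isTerminalTop' U)).comp
    (EtSix.extZeroModAdj Λ j)).homEquiv (ModuleCat.of Λ Λ) G).injective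
  rw [Adjunction.homEquiv_unit, Adjunction.homEquiv_unit]
  apply ModuleCat.hom_ext
  apply LinearMap.ext_ring
  exact h

theorem exists_extZero_desc {G : EtModW.Mod Λ X} (s : G.obj.obj (op ((EtShriek.compEtale j).obj (EtCoh.top U)))) :
    ∃ φ : (EtSix.extZeroMod Λ j).obj (EtSix.constΛ Λ U) ⟶ G, φ.hom.app (op _) (gen j) = s := by
  let adj := (constantSheafAdj U.smallEtaleTopology (ModuleCat.{u + 1} Λ) (EtColim.isTerminalTop' U)).comp
    (EtSix.extZeroModAdj Λ j)
  let h : ModuleCat.of Λ Λ ⟶ G.obj.obj (op ((EtShriek.compEtale j).obj (EtCoh.top U))) :=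
    ModuleCat.ofHom (LinearMap.toSpanSingleton Λ _ s)
  refine ⟨(adj.homEquiv (ModuleCat.of Λ Λ) G).symm h, ?_⟩
  have e := (adj.homEquiv (ModuleCat.of Λ Λ) G).apply_symm_apply h
  rw [Adjunction.homEquiv_unit] at e
  exact (ConcreteCategory.congr_hom e (1 : Λ)).trans (LinearMap.toSpanSingleton_apply_one Λ _ s)

end Gen

theorem sect_ext_mod (G : EtModW.Mod Λ X) {U : X.Etale} {ι : Type u} {Z : ι → X.Etale} (f : ∀ i, Z i ⟶ U)
    (hf : ∀ x : U.left, ∃ i z, (f i).left z = x) {s t : G.obj.obj (op U)}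
    (h : ∀ i, G.obj.map (f i).op s = G.obj.map (f i).op t) : s = t :=
  EtPic3.sect_ext ((EtModD.forgetToAb Λ X).obj G) f hf h

theorem exists_glue_mod (G : EtModW.Mod Λ X) {U : X.Etale} {ι : Type u} {Z : ι → X.Etale} (f : ∀ i, Z i ⟶ U)
    (hf : ∀ x : U.left, ∃ i z, (f i).left z = x) (s : ∀ i, G.obj.obj (op (Z i)))
    (h : ∀ (i k : ι) (T : X.Etale) (a : T ⟶ Z i) (b : T ⟶ Z k), a ≫ f i = b ≫ f k →
      G.obj.map a.op (s i) = G.obj.map b.op (s k)) :
    ∃ S, ∀ i, G.obj.map (f i).op S = s i :=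
  EtPic3.exists_glue ((EtModD.forgetToAb Λ X).obj G) f hf s h

/-- The split case. -/
theorem nonempty_extZero_split {P : Scheme.{u}} (q : P ⟶ X) [Etale q] [EtShriek.JCont q] (n : ℕ)
    (τ : Fin n → (X ⟶ P)) (hτ : ∀ i, τ i ≫ q = 𝟙 X) (hcov : ∀ z : P, ∃ i x, τ i x = z)
    (hdisj : ∀ (i k : Fin n) (x y : X), τ i x = τ k y → i = k) :
    Nonempty ((EtSix.extZeroMod Λ q).obj (EtSix.constΛ Λ P) ≅
      (constantSheaf X.smallEtaleTopology (ModuleCat.{u + 1} Λ)).obj (ModuleCat.of Λ (Fin n → Λ))) := by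
  classical
  let adjC := constantSheafAdj X.smallEtaleTopology (ModuleCat.{u + 1} Λ) (EtColim.isTerminalTop' X)
  let M := ModuleCat.of Λ (Fin n → Λ)
  let C := (constantSheaf X.smallEtaleTopology (ModuleCat.{u + 1} Λ)).obj M
  let W₀ := (EtShriek.compEtale q).obj (EtCoh.top P)
  let σ : Fin n → (EtCoh.top X ⟶ W₀) := fun i => MorphismProperty.Over.homMk (τ i) (by
    show τ i ≫ 𝟙 P ≫ q = 𝟙 X
    rw [Category.id_comp, hτ])
  have hσcov : ∀ z : W₀.left, ∃ (i : ULift.{u} (Fin n)) (x : (EtCoh.top X).left), (σ i.down).left x = z := fun z => by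
    obtain ⟨i, x, hx⟩ := hcov z
    exact ⟨⟨i⟩, x, hx⟩
  let Q := (EtSix.extZeroMod Λ q).obj (EtSix.constΛ Λ P)
  let e : Fin n → C.obj.obj (op (EtCoh.top X)) := fun i => adjC.unit.app M (Pi.single i (1 : Λ))
  obtain ⟨S, hS⟩ := exists_glue_mod C (Z := fun _ : ULift.{u} (Fin n) => EtCoh.top X) (fun i => σ i.down) hσcov
    (fun i => e i.down) (fun i k T a b hab => by
      by_cases hT : Nonempty T.left
      · obtain ⟨t⟩ := hT
        have hik : i = k := ULift.ext _ _ (hdisj _ _ (a.left t) (b.left t)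
          (congrArg (fun f : T ⟶ W₀ => f.left t) hab))
        subst hik
        rw [(EtColim.isTerminalTop' X).hom_ext a b]
      · exact sect_ext_mod C (fun i : PEmpty.{u + 1} => (i.elim : T ⟶ T)) (fun z => absurd ⟨z⟩ hT)
          (fun i => i.elim))
  obtain ⟨Φ, hΦ⟩ := exists_extZero_desc q (G := C) S
  let v : Fin n → Q.obj.obj (op (EtCoh.top X)) := fun i => Q.obj.map (σ i).op (gen q)
  let hmap : M ⟶ Q.obj.obj (op (EtCoh.top X)) := ModuleCat.ofHom ((Pi.basisFun Λ (Fin n)).constr Λ v)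
  let Ψ : C ⟶ Q := (adjC.homEquiv M Q).symm hmap
  have hΨ : ∀ i, Ψ.hom.app (op (EtCoh.top X)) (e i) = v i := fun i => by
    have h1 := (adjC.homEquiv M Q).apply_symm_apply hmap
    rw [Adjunction.homEquiv_unit] at h1
    refine (ConcreteCategory.congr_hom h1 (Pi.single i (1 : Λ))).trans ?_
    show (Pi.basisFun Λ (Fin n)).constr Λ v (Pi.single i 1) = v i
    rw [← Pi.basisFun_apply Λ (Fin n) i, Module.Basis.constr_basis]
  have hΦv : ∀ i, Φ.hom.app (op (EtCoh.top X)) (v i) = e i := fun i =>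
    (NatTrans.naturality_apply Φ.hom (σ i).op (gen q)).trans ((congrArg (C.obj.map (σ i).op) hΦ).trans (hS ⟨i⟩))
  refine ⟨⟨Φ, Ψ, extZero_hom_ext q ?_, ?_⟩⟩
  · refine sect_ext_mod Q (Z := fun _ : ULift.{u} (Fin n) => EtCoh.top X) (fun i => σ i.down) hσcov fun i => ?_
    show Q.obj.map (σ i.down).op (Ψ.hom.app (op W₀) (Φ.hom.app (op W₀) (gen q))) = Q.obj.map (σ i.down).op (gen q)
    rw [← NatTrans.naturality_apply Ψ.hom, hΦ, hS i]
    exact hΨ i.down
  · apply (adjC.homEquiv M C).injective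
    rw [Adjunction.homEquiv_unit, Adjunction.homEquiv_unit]
    apply ModuleCat.hom_ext
    refine (Pi.basisFun Λ (Fin n)).ext fun i => ?_
    rw [Pi.basisFun_apply]
    show Φ.hom.app (op (EtCoh.top X)) (Ψ.hom.app (op (EtCoh.top X)) (e i)) = e i
    rw [hΨ, hΦv]

/-- A finite étale morphism splits near every point. -/
theorem exists_split_nhd {T P : Scheme.{u}} (p : P ⟶ T) [IsFinite p] [Etale p] (t : T) :
    ∃ (W : Scheme.{u}) (g : W ⟶ T) (_ : Etale g) (w : W) (n : ℕ) (τ : Fin n → (W ⟶ pullback p g)),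
      g w = t ∧ (∀ i, τ i ≫ pullback.snd p g = 𝟙 W) ∧ (∀ z, ∃ i x, τ i x = z) ∧
      ∀ (i k : Fin n) (x y : W), τ i x = τ k y → i = k := by
  classical
  have hlc := p.isLocallyConstant_finrank
  let n := p.finrank t
  let O : T.Opens := ⟨p.finrank ⁻¹' {n}, hlc.isOpen_fiber n⟩
  have hO : ∀ y, O.ι y ∈ p.finrank ⁻¹' {n} := fun y => y.2
  let f := pullback.snd p O.ι
  have hdeg : ∀ y, f.finrank y = n := fun y => (Scheme.Hom.finrank_pullback_snd p O.ι y).trans (hO y)
  by_cases hn : n = 0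
  · haveI : IsEmpty ↥(pullback p O.ι) := ⟨fun z => by
      have h1 := Scheme.Hom.one_le_finrank_map f z
      rw [hdeg, hn] at h1
      omega⟩
    exact ⟨O, O.ι, inferInstance, ⟨t, rfl⟩, 0, fun i => i.elim0, rfl, fun i => i.elim0,
      fun z => isEmptyElim z, fun i => i.elim0⟩
  · obtain ⟨N, g, w, hg, hgs, hw, -, hne⟩ := SplitCover25.exists_numbering f (n := n) (by omega) hdeg
    obtain ⟨w₀, hw₀⟩ := hgs.surj ⟨t, rfl⟩
    haveI : Etale g := hg.2
    let τ : Fin n → (N ⟶ pullback p (g ≫ O.ι)) := fun i =>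
      pullback.lift (w i ≫ pullback.fst p O.ι) (𝟙 N) (by
        rw [Category.assoc, pullback.condition, Category.id_comp, ← Category.assoc]
        exact congrArg (· ≫ O.ι) (hw i))
    have hτ : ∀ i, τ i ≫ pullback.snd p (g ≫ O.ι) = 𝟙 N := fun i => pullback.lift_snd _ _ _
    refine ⟨N, g ≫ O.ι, inferInstance, w₀, n, τ, ?_, hτ, fun z => ?_, fun i k x y hxy => ?_⟩
    · rw [Scheme.Hom.comp_apply, hw₀]; rfl
    · obtain ⟨Ω, _, _, a, rfl⟩ := SplitCover25.exists_geomPoint z
      let b := a ≫ pullback.snd p (g ≫ O.ι)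
      let ξ := b ≫ g ≫ O.ι
      have hc := SplitCover25.card_fibre p ξ
      have hval : p.finrank (ξ (IsLocalRing.closedPoint Ω)) = n := hO _
      rw [hval] at hc
      haveI : Finite {s : Spec (CommRingCat.of Ω) ⟶ P // s ≫ p = ξ} := Nat.finite_of_card_ne_zero (by omega)
      let m : Fin n → {s : Spec (CommRingCat.of Ω) ⟶ P // s ≫ p = ξ} := fun i =>
        ⟨b ≫ τ i ≫ pullback.fst p (g ≫ O.ι), by
          simp only [ξ, b, Category.assoc, pullback.condition, reassoc_of% (hτ i)]⟩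
      have hm : Function.Injective m := fun i k hik => by_contra fun hik' => by
        refine hne Ω b i k hik' ?_
        have h1 := congrArg Subtype.val hik
        simp only [m, τ, pullback.lift_fst] at h1
        apply pullback.hom_ext
        · rw [Category.assoc, Category.assoc]; exact h1
        · exact (Category.assoc _ _ _).trans ((congrArg (b ≫ ·) ((hw i).trans (hw k).symm)).trans (Category.assoc _ _ _).symm)
      obtain ⟨i, hi⟩ := (hm.bijective_of_nat_card_le (by rw [hc, Nat.card_fin])).2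
        ⟨a ≫ pullback.fst p (g ≫ O.ι), by
          simp only [ξ, b, Category.assoc, pullback.condition]⟩
      have hai : b ≫ τ i = a := by
        apply pullback.hom_ext
        · rw [Category.assoc]; exact congrArg Subtype.val hi
        · rw [Category.assoc, hτ, Category.comp_id]
      exact ⟨i, b (IsLocalRing.closedPoint Ω), by rw [← Scheme.Hom.comp_apply, hai]⟩
    · by_contra hik
      obtain ⟨Ω, _, _, s, hs⟩ := SplitCover25.exists_geomPoint x
      haveI : IsOpenImmersion (τ k) := by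
        haveI : Etale (τ k ≫ pullback.snd p (g ≫ O.ι)) := by rw [hτ]; infer_instance
        haveI : Mono (τ k ≫ pullback.snd p (g ≫ O.ι)) := by rw [hτ]; infer_instance
        haveI : Mono (τ k) := mono_of_mono _ (pullback.snd p (g ≫ O.ι))
        haveI : Etale (τ k) := Etale.of_comp (τ k) (pullback.snd p (g ≫ O.ι))
        exact IsOpenImmersion.of_flat_of_mono _
      obtain ⟨s', hs'⟩ := SplitCover25.exists_fac (τ k) (s ≫ τ i)
        ⟨y, by rw [Scheme.Hom.comp_apply, hs]; exact hxy.symm⟩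
      have hss : s' = s := by
        have := congrArg (· ≫ pullback.snd p (g ≫ O.ι)) hs'
        simpa only [Category.assoc, hτ, Category.comp_id] using this
      subst hss
      refine hne Ω s' i k hik ?_
      have h1 := congrArg (· ≫ pullback.fst p (g ≫ O.ι)) hs'
      simp only [τ, Category.assoc, pullback.lift_fst] at h1
      apply pullback.hom_ext
      · rw [Category.assoc, Category.assoc]; exact h1.symm
      · exact (Category.assoc _ _ _).trans ((congrArg (s' ≫ ·) ((hw i).trans (hw k).symm)).trans (Category.assoc _ _ _).symm)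

/-- Where `j` becomes finite, its extension by zero of `Λ` is locally free. -/
theorem exists_triv_of_finite {U T : Scheme.{u}} (j : U ⟶ X) [Etale j] [EtShriek.JCont j] (c : T ⟶ X)
    [IsFinite (pullback.snd j c)] (t : T) :
    ∃ (W : T.Etale) (w : W.left) (n : ℕ), W.hom w = t ∧
      Nonempty (((EtModW.pull Λ c).obj ((EtSix.extZeroMod Λ j).obj (EtSix.constΛ Λ U))).over W ≅
        (constantSheaf (T.smallEtaleTopology.over W) (ModuleCat.{u + 1} Λ)).obj (ModuleCat.of Λ (Fin n → Λ))) := by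
  let p := pullback.snd j c
  obtain ⟨W, g, hg, w, n, τ, hw, hτ, hcov, hdisj⟩ := exists_split_nhd p t
  let W' : T.Etale := Scheme.Etale.mk g
  let A := ModuleCat.{u + 1} Λ
  refine ⟨W', w, n, hw, (LocConstGen24.over_iff A W' _ _).2 ?_⟩
  let q := pullback.snd p g
  let g' : pullback p g ⟶ U := pullback.fst p g ≫ pullback.fst j c
  have sq : IsPullback q g' (g ≫ c) j :=
    ((IsPullback.of_hasPullback p g).paste_horiz (IsPullback.of_hasPullback j c).flip.flip).flip
  haveI : EtShriek.JCont q := EtStalk.jCont q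
  obtain ⟨e⟩ := nonempty_extZero_split (Λ := Λ) q n τ hτ hcov hdisj
  exact ⟨(LocConstGen24.resPullIso A W').app _ ≪≫
    ((LocConstGen24.pullCompA A g c).app _).symm ≪≫
    ((extZeroBCMod (Λ := Λ) j (g ≫ c) q g' sq).app _).symm ≪≫
    (EtSix.extZeroMod Λ q).mapIso ((LocConstGen24.pullConstA A g').app (ModuleCat.of Λ Λ)) ≪≫ e⟩

/-- Extension by zero of `Λ` from an affine étale scheme is constructible. -/
theorem isConstructible_extZero_const [CompactSpace X] [QuasiSeparatedSpace X] {U : Scheme.{u}} [IsAffine U]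
    (j : U ⟶ X) [Etale j] [EtShriek.JCont j] :
    EtModW.IsConstructible Λ ((EtSix.extZeroMod Λ j).obj (EtSix.constΛ Λ U)) := by
  haveI : IsSeparated j := IsSeparated.of_comp j (terminal.from X)
  haveI : QuasiCompact j := quasiCompact_of_compactSpace j
  obtain ⟨κ, _, T, c, hci, hcc, hcd, hcu, hcf⟩ := Constr24.exists_strata_finite j
  refine Strata.isConstructible_of_univ (Strata.adapted_of_finite T c hci
    (fun k => (isConstructible_preimage_iff_of_isOpenEmbedding isOpen_univ.isOpenEmbedding_subtypeVal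
      (by rw [Subtype.range_coe]; exact IsRetrocompact.univ)
      (by rw [Subtype.range_coe]; exact Set.subset_univ _)).2 (hcc k)) hcd hcu fun k => ?_)
  haveI := hcf k
  refine isFTLocConst_of_pointwise fun t => ?_
  obtain ⟨W, w, n, hw, he⟩ := exists_triv_of_finite (Λ := Λ) j (c k) t
  exact ⟨W, w, _, hw, inferInstanceAs (Module.Finite Λ (Fin n → Λ)), he⟩

/-- Its stalks are flat. -/
theorem flat_stalk_extZero_const [CompactSpace X] [QuasiSeparatedSpace X] {U : Scheme.{u}} [IsAffine U]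
    (j : U ⟶ X) [Etale j] [EtShriek.JCont j] {Ω : Type u} [Field Ω] [IsSepClosed Ω]
    (ξ : Spec (CommRingCat.of Ω) ⟶ X) :
    Module.Flat Λ ((EtModW.stalk Λ ξ).obj ((EtSix.extZeroMod Λ j).obj (EtSix.constΛ Λ U))) := by
  haveI : IsSeparated j := IsSeparated.of_comp j (terminal.from X)
  haveI : QuasiCompact j := quasiCompact_of_compactSpace j
  obtain ⟨κ, _, T, c, hci, hcc, hcd, hcu, hcf⟩ := Constr24.exists_strata_finite j
  obtain ⟨k, hk⟩ := Set.mem_iUnion.1 (hcu.ge (Set.mem_univ (ξ default)))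
  haveI := hci k
  haveI := hcf k
  obtain ⟨ξ', rfl⟩ := exists_factor (c k) ξ hk
  let E := (EtModW.pull Λ (c k)).obj ((EtSix.extZeroMod Λ j).obj (EtSix.constΛ Λ U))
  obtain ⟨W, w, n, hw, ⟨e⟩⟩ := exists_triv_of_finite (Λ := Λ) j (c k) (ξ' default)
  let α := trivOfRestr (F := E) e
  obtain ⟨y, -⟩ := Scheme.pointSmallEtaleFiberObjToPreimage_surjective ξ' rfl W ⟨w, hw⟩
  let L : (Fin n → Λ) →ₗ[Λ] (EtModW.stalk Λ ξ').obj E := (sg α (𝟙 W) ≫ germM ξ' E y).hom
  have hL : Function.Bijective L := by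
    refine ⟨(injective_iff_map_eq_zero L).2 fun m hm => ?_, surjective_sg_germ α ξ' y⟩
    obtain ⟨V, g, z, -, hg⟩ := (germM_eq_zero_iff ξ' E y (sg α (𝟙 W) m)).1 hm
    rw [sg_map] at hg
    exact sg_injective α (g ≫ 𝟙 W) (z.left (default : Spec (CommRingCat.of Ω))) (hg.trans (map_zero _).symm)
  haveI : Module.Flat Λ ((EtModW.stalk Λ ξ').obj E) :=
    Module.Flat.of_linearEquiv (LinearEquiv.ofBijective L hL).symm
  exact @Module.Flat.of_linearEquiv Λ _ _ _ _ _ _ _ ‹Module.Flat Λ ((EtModW.stalk Λ ξ').obj E)›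
    ((stalkPullModIso (Λ := Λ) (c k) ξ').app
    ((EtSix.extZeroMod Λ j).obj (EtSix.constΛ Λ U))).toLinearEquiv

end Groth.Agent.ModGen6
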