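import Groth.Agent.Lib.EtModEps19.ConstrM
import Groth.Agent.Lib.Constr24.Atoms
import Groth.Agent.Lib.StrictLim24.Section
import Groth.Prelude.Def_SixF2

/-! Constructible sheaves of modules are generated by finitely many extensions by zero. -/

universe u

open CategoryTheory CategoryTheory.Limits AlgebraicGeometry Opposite Topology

namespace Groth.Agent.ModGen6

open Groth.Agent.EtModEps19

set_option autoImplicit false
set_option backward.isDefEq.respectTransparency false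
set_option backward.isDefEq.respectTransparency.types false
set_option linter.style.haveILetI false
set_option linter.unusedSectionVars false
set_option maxHeartbeats 800000

variable {Λ : Type (u + 1)} [CommRing Λ] {X : Scheme.{u}}

theorem surjective_sg_germ {U : X.Etale} {M : ModuleCat.{u + 1} Λ} {E : EtModW.Mod Λ X}
    (α : (Over.forget U).op ⋙ E.obj ≅ (Over.forget U).op ⋙ (cEt Λ X M).obj)
    {Ω : Type u} [Field Ω] [IsSepClosed Ω] (ξ : Spec (CommRingCat.of Ω) ⟶ X) (y : EtStalk.fib ξ U) :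
    Function.Surjective fun m => germM ξ E y (sg α (𝟙 U) m) := by
  intro p
  let P := Scheme.pointSmallEtale ξ
  obtain ⟨V, x, z, rfl⟩ := germM_surjective ξ E p
  let E₁ : P.fiber.Elements := ⟨V, x⟩
  let E₂ : P.fiber.Elements := ⟨U, y⟩
  obtain ⟨Q, f₁, f₂, -⟩ := IsCofilteredOrEmpty.cone_objs E₁ E₂
  let a : Q.1 ⟶ V := f₁.1
  let b : Q.1 ⟶ U := f₂.1
  obtain ⟨W, g, ⟨m, hm⟩, w, hw⟩ := P.jointly_surjective _
    (Presheaf.imageSieve_mem X.smallEtaleTopology
      (toSheafify X.smallEtaleTopology ((Functor.const X.Etaleᵒᵖ).obj M)) (U := op Q.1)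
      (α.hom.app (op (Over.mk b)) (E.obj.map a.op z))) Q.2
  refine ⟨m, ?_⟩
  have e1 : α.hom.app (op (Over.mk (g ≫ b))) (E.obj.map g.op (E.obj.map a.op z)) =
      can X.smallEtaleTopology M W m :=
    (NatTrans.naturality_apply α.hom (Over.homMk g : Over.mk (g ≫ b) ⟶ Over.mk b).op _).trans hm.symm
  have e2 : E.obj.map g.op (E.obj.map a.op z) = sg α (g ≫ b) m :=
    ((congr($(α.hom_inv_id_app (op (Over.mk (g ≫ b)))) (E.obj.map g.op (E.obj.map a.op z)))).symm).trans
      (congrArg (α.inv.app (op (Over.mk (g ≫ b)))) e1)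
  show germM ξ E y (sg α (𝟙 U) m) = germM ξ E x z
  have hy : P.fiber.map (g ≫ b) w = y := by
    rw [Functor.map_comp_apply, hw]
    exact f₂.2
  have hx : P.fiber.map (g ≫ a) w = x := by
    rw [Functor.map_comp_apply, hw]
    exact f₁.2
  conv_lhs => rw [← hy]
  conv_rhs => rw [← hx]
  refine (P.toPresheafFiber_w_apply (g ≫ b) w E.obj _).symm.trans
    (Eq.trans ?_ (P.toPresheafFiber_w_apply (g ≫ a) w E.obj _))
  rw [sg_map, Category.comp_id, ← e2, op_comp, Functor.map_comp_apply]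

/-- Surjectivity onto a locally constant sheaf of finite type is an open condition. -/
theorem exists_open_surjective {P E : EtModW.Mod Λ X} (a : P ⟶ E) (hE : EtModW.IsFTLocConst Λ E)
    {Ω : Type u} [Field Ω] [IsSepClosed Ω] (ξ : Spec (CommRingCat.of Ω) ⟶ X)
    (h : Function.Surjective ((EtModW.stalk Λ ξ).map a)) :
    ∃ O : X.Opens, ξ default ∈ O ∧ ∀ (K : Type u) [Field K] [IsSepClosed K] (η : Spec (CommRingCat.of K) ⟶ X),
      η default ∈ O → Function.Surjective ((EtModW.stalk Λ η).map a) := by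
  classical
  obtain ⟨ι, U, hU, hM⟩ := hE
  obtain ⟨i, u₀, hu⟩ := hU (ξ default)
  obtain ⟨M, _, _, hMf, ⟨e⟩⟩ := hM i
  let α := trivOfRestr e
  obtain ⟨y, -⟩ := Scheme.pointSmallEtaleFiberObjToPreimage_surjective ξ rfl (U i) ⟨u₀, hu⟩
  obtain ⟨r, b, hb⟩ := Module.Finite.exists_fin (R := Λ) (M := M)
  have step : ∀ s : Finset (Fin r), ∃ (Q : X.Etale) (c : Q ⟶ U i) (q : EtStalk.fib ξ Q),
      (Scheme.pointSmallEtale ξ).fiber.map c q = y ∧ ∀ l ∈ s, ∃ t, a.hom.app (op Q) t = sg α c (b l) := by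
    intro s
    induction s using Finset.induction_on with
    | empty => exact ⟨U i, 𝟙 _, y, by simp, by simp⟩
    | insert l s _ ih =>
      obtain ⟨Q, c, q, hq, hs⟩ := ih
      obtain ⟨p, hp⟩ := h (germM ξ E q (sg α c (b l)))
      obtain ⟨V, x, z, rfl⟩ := germM_surjective ξ P p
      rw [germM_nat] at hp
      let E₁ : (Scheme.pointSmallEtale ξ).fiber.Elements := ⟨V, x⟩
      let E₂ : (Scheme.pointSmallEtale ξ).fiber.Elements := ⟨Q, q⟩
      obtain ⟨R, f₁, f₂, -⟩ := IsCofilteredOrEmpty.cone_objs E₁ E₂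
      let g₁ : R.1 ⟶ V := f₁.1
      let g₂ : R.1 ⟶ Q := f₂.1
      have h0 : germM ξ E R.2 (E.obj.map g₁.op (a.hom.app (op V) z) - E.obj.map g₂.op (sg α c (b l))) = 0 := by
        rw [map_sub, sub_eq_zero]
        have e1 : germM ξ E R.2 (E.obj.map g₁.op (a.hom.app (op V) z)) = germM ξ E x (a.hom.app (op V) z) :=
          ((Scheme.pointSmallEtale ξ).toPresheafFiber_w_apply g₁ R.2 E.obj _).trans (by rw [f₁.2]; rfl)
        have e2 : germM ξ E R.2 (E.obj.map g₂.op (sg α c (b l))) = germM ξ E q (sg α c (b l)) :=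
          ((Scheme.pointSmallEtale ξ).toPresheafFiber_w_apply g₂ R.2 E.obj _).trans (by rw [f₂.2]; rfl)
        rw [e1, e2, hp]
      obtain ⟨W, g, w, hw, hg⟩ := (germM_eq_zero_iff ξ E _ _).1 h0
      rw [map_sub, sub_eq_zero] at hg
      refine ⟨W, g ≫ g₂ ≫ c, w, ?_, ?_⟩
      · rw [Functor.map_comp_apply, hw, Functor.map_comp_apply,
          show (Scheme.pointSmallEtale ξ).fiber.map g₂ R.2 = q from f₂.2, hq]
      · intro k hk
        rcases Finset.mem_insert.1 hk with rfl | hk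
        · refine ⟨P.obj.map (g ≫ g₁).op z, ?_⟩
          rw [NatTrans.naturality_apply a.hom (g ≫ g₁).op z, op_comp, Functor.map_comp_apply, hg,
            sg_map, sg_map]
        · obtain ⟨t, ht⟩ := hs k hk
          refine ⟨P.obj.map (g ≫ g₂).op t, ?_⟩
          rw [NatTrans.naturality_apply a.hom (g ≫ g₂).op t, ht, sg_map, Category.assoc]
  obtain ⟨Q, c, q, -, hs⟩ := step Finset.univ
  haveI : Etale Q.hom := Q.prop
  refine ⟨⟨Set.range Q.hom, Q.hom.isOpenMap.isOpen_range⟩, ⟨q.left (default : Spec (CommRingCat.of Ω)), ?_⟩, fun K _ _ η hη => ?_⟩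
  · show (q.left ≫ Q.hom) (default : Spec (CommRingCat.of Ω)) = ξ default
    exact congrArg (fun f : Spec (CommRingCat.of Ω) ⟶ X => f (default : Spec (CommRingCat.of Ω))) (Over.w q)
  obtain ⟨z, hz⟩ := hη
  obtain ⟨q', -⟩ := Scheme.pointSmallEtaleFiberObjToPreimage_surjective η rfl Q ⟨z, hz⟩
  intro p
  obtain ⟨m, rfl⟩ := surjective_sg_germ α η ((Scheme.pointSmallEtale η).fiber.map c q') p
  let L : M →ₗ[Λ] (EtModW.stalk Λ η).obj E := (sg α c ≫ germM η E q').hom
  have hL : ∀ m, germM η E ((Scheme.pointSmallEtale η).fiber.map c q') (sg α (𝟙 (U i)) m) = L m := fun m => by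
    show _ = germM η E q' (sg α c m)
    refine ((Scheme.pointSmallEtale η).toPresheafFiber_w_apply c q' E.obj _).symm.trans ?_
    rw [sg_map, Category.comp_id]
    rfl
  have hle : LinearMap.range L ≤ LinearMap.range ((EtModW.stalk Λ η).map a).hom := by
    rw [← Submodule.map_top, ← hb, Submodule.map_span_le]
    rintro _ ⟨l, rfl⟩
    obtain ⟨t, ht⟩ := hs l (Finset.mem_univ l)
    exact ⟨germM η P q' t, (germM_nat η a q' t).trans (congrArg (germM η E q') ht)⟩
  obtain ⟨p', hp'⟩ := hle ⟨m, rfl⟩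
  exact ⟨p', hp'.trans (hL m).symm⟩

/-- A section over an étale scheme comes from its extension by zero. -/
theorem exists_hom_extZero {U : Scheme.{u}} (j : U ⟶ X) [Etale j] [EtShriek.JCont j] (E : EtModW.Mod Λ X)
    (s : E.obj.obj (op ((EtShriek.compEtale j).obj (EtCoh.top U)))) :
    ∃ (φ : (EtSix.extZeroMod Λ j).obj (EtSix.constΛ Λ U) ⟶ E)
      (e : ((EtSix.extZeroMod Λ j).obj (EtSix.constΛ Λ U)).obj.obj (op ((EtShriek.compEtale j).obj (EtCoh.top U)))),
      φ.hom.app (op ((EtShriek.compEtale j).obj (EtCoh.top U))) e = s := by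
  let A := ModuleCat.of Λ Λ
  let h : A ⟶ E.obj.obj (op ((EtShriek.compEtale j).obj (EtCoh.top U))) :=
    ModuleCat.ofHom (LinearMap.toSpanSingleton Λ _ s)
  let adj := (constantSheafAdj U.smallEtaleTopology (ModuleCat.{u + 1} Λ) (EtColim.isTerminalTop' U)).comp
    (EtSix.extZeroModAdj Λ j)
  refine ⟨(adj.homEquiv A E).symm h, adj.unit.app A (1 : Λ), ?_⟩
  have e := (adj.homEquiv A E).apply_symm_apply h
  rw [Adjunction.homEquiv_unit] at e
  exact (ConcreteCategory.congr_hom e (1 : Λ)).trans (LinearMap.toSpanSingleton_apply_one Λ _ s)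

/-- A finite family of sections generating an epimorphism onto a constructible sheaf. -/
theorem exists_sum_comp_epi [CompactSpace X] [QuasiSeparatedSpace X]
    {Z E : EtModW.Mod Λ X} (π : Z ⟶ E) [Epi π] (hE : EtModW.IsConstructible Λ E) :
    ∃ (m : ℕ) (U : Fin m → Scheme.{u}) (j : ∀ k, U k ⟶ X) (_ : ∀ k, Etale (j k)) (_ : ∀ k, IsAffine (U k)),
      ∀ [∀ k, EtShriek.JCont (j k)],
        ∃ φ : (∐ fun k => (EtSix.extZeroMod Λ (j k)).obj (EtSix.constΛ Λ (U k))) ⟶ Z, Epi (φ ≫ π) := by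
  classical
  obtain ⟨n, T, g, hg, hgc, -, hgu, hgl⟩ := Strata.adapted_univ hE
  have hr : ∀ i, Topology.IsConstructible (Set.range (g i)) := fun i =>
    Constr24.isConstructible_of_subtype_univ (hgc i)
  have hTc : ∀ i, CompactSpace (T i) := fun i => by
    haveI := hg i
    exact ⟨(g i).isEmbedding.isCompact_iff.2 (by rw [Set.image_univ]; exact Constr24.isCompact_constructible (hr i))⟩
  have loc : ∀ x : X, ∃ (r : ℕ) (W : Fin r → Scheme.{u}) (w : ∀ k, W k ⟶ X) (_ : ∀ k, Etale (w k))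
      (_ : ∀ k, IsAffine (W k)) (C : Set X), Topology.IsConstructible C ∧ x ∈ C ∧
        ∀ [∀ k, EtShriek.JCont (w k)], ∃ ψ : ∀ k, (EtSix.extZeroMod Λ (w k)).obj (EtSix.constΛ Λ (W k)) ⟶ Z,
          ∀ (Ω : Type u) [Field Ω] [IsSepClosed Ω] (ξ : Spec (CommRingCat.of Ω) ⟶ X), ξ default ∈ C →
            Function.Surjective ((EtModW.stalk Λ ξ).map (Sigma.desc ψ ≫ π)) := by
    intro x
    obtain ⟨i, t, ht⟩ := Set.mem_iUnion.1 (hgu.ge (Set.mem_univ x))
    haveI := hg i
    haveI := hTc i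
    haveI : QuasiSeparatedSpace (T i) := quasiSeparatedSpace_of_quasiSeparated (g i)
    let ξ₀ := EtStalk.geomPt (T i) t ≫ g i
    haveI := finite_stalk ξ₀ hE
    obtain ⟨r, b, hb⟩ := Module.Finite.exists_fin (R := Λ) (M := (EtModW.stalk Λ ξ₀).obj E)
    have key : ∀ l : Fin r, ∃ (W : Scheme.{u}) (w : W ⟶ X) (_ : Etale w), IsAffine W ∧
        ∃ (y : EtStalk.fib ξ₀ ((EtShriek.compEtale w).obj (EtCoh.top W)))
          (s : Z.obj.obj (op ((EtShriek.compEtale w).obj (EtCoh.top W)))),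
          (EtModW.stalk Λ ξ₀).map π (germM ξ₀ Z y s) = b l := by
      intro l
      obtain ⟨p, hp⟩ := (ModuleCat.epi_iff_surjective ((EtModW.stalk Λ ξ₀).map π)).1 inferInstance (b l)
      obtain ⟨V, z, s, rfl⟩ := germM_surjective ξ₀ Z p
      haveI : Etale V.hom := V.prop
      obtain ⟨A, hA, hzA, -⟩ :=
        exists_isAffineOpen_mem_and_subset (U := (⊤ : V.left.Opens)) (x := EtStalk.fibPt z) trivial
      let zl : Spec (CommRingCat.of (SeparableClosure ((T i).residueField t))) ⟶ V.left := z.left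
      obtain ⟨c, hc⟩ := LocConst24.comp_eq_of_mem_range A.ι zl (by rw [A.range_ι]; exact hzA)
      let w : (A : Scheme.{u}) ⟶ X := A.ι ≫ V.hom
      let θ : (EtShriek.compEtale w).obj (EtCoh.top A) ⟶ V :=
        MorphismProperty.Over.homMk A.ι (by
          show A.ι ≫ V.hom = 𝟙 _ ≫ A.ι ≫ V.hom
          rw [Category.id_comp])
      let y : EtStalk.fib ξ₀ ((EtShriek.compEtale w).obj (EtCoh.top A)) := Over.homMk c (by
        show c ≫ 𝟙 _ ≫ A.ι ≫ V.hom = ξ₀
        rw [Category.id_comp, ← Category.assoc, hc]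
        exact Over.w z)
      refine ⟨A, w, inferInstanceAs (Etale (A.ι ≫ V.hom)), hA, y, Z.obj.map θ.op s, ?_⟩
      rw [← hp]
      refine congrArg ((EtModW.stalk Λ ξ₀).map π) ?_
      refine ((Scheme.pointSmallEtale ξ₀).toPresheafFiber_w_apply θ y Z.obj s).trans ?_
      rw [show (Scheme.pointSmallEtale ξ₀).fiber.map θ y = z from Over.OverMorphism.ext hc]
      rfl
    choose W w hw hWa y s hs using key
    haveI := hw
    haveI : ∀ k, EtShriek.JCont (w k) := fun k => EtStalk.jCont (w k)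
    choose ψ e hψ using fun k => exists_hom_extZero (w k) Z (s k)
    have hsur : Function.Surjective ((EtModW.stalk Λ ξ₀).map (Sigma.desc ψ ≫ π)) := by
      refine fun p => LinearMap.mem_range.1 ?_
      have hle : (⊤ : Submodule Λ _) ≤ LinearMap.range ((EtModW.stalk Λ ξ₀).map (Sigma.desc ψ ≫ π)).hom := by
        rw [← hb, Submodule.span_le]
        rintro _ ⟨l, rfl⟩
        refine ⟨(EtModW.stalk Λ ξ₀).map (Sigma.ι _ l) (germM ξ₀ _ (y l) (e l)), ?_⟩
        rw [← hs l]
        refine (ConcreteCategory.comp_apply ((EtModW.stalk Λ ξ₀).map (Sigma.ι _ l))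
          ((EtModW.stalk Λ ξ₀).map (Sigma.desc ψ ≫ π)) _).symm.trans ?_
        rw [← Functor.map_comp, Sigma.ι_desc_assoc, Functor.map_comp, ConcreteCategory.comp_apply, germM_nat, hψ]
      exact hle trivial
    let a := Sigma.desc ψ ≫ π
    have hpull : Function.Surjective ((EtModW.stalk Λ (EtStalk.geomPt (T i) t)).map ((EtModW.pull Λ (g i)).map a)) := by
      refine (ModuleCat.epi_iff_surjective _).1 ?_
      haveI : Epi ((EtModW.stalk Λ ξ₀).map a) := (ModuleCat.epi_iff_surjective _).2 hsur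
      exact (NatIso.naturality_1 (stalkPullModIso (Λ := Λ) (g i) (EtStalk.geomPt (T i) t)) a) ▸
        (inferInstance : Epi (_ ≫ (EtModW.stalk Λ ξ₀).map a ≫ _))
    obtain ⟨O, htO, hO⟩ := exists_open_surjective _ (hgl i) _ hpull
    rw [EtStalk.geomPt_default] at htO
    obtain ⟨O', hO', htO', hle⟩ := exists_isAffineOpen_mem_and_subset (U := O) htO
    refine ⟨r, W, w, hw, hWa, g i '' O', Constr24.isConstructible_image_immersion (g i) (hr i)
      (hO'.isCompact.isConstructible O'.2), ⟨t, htO', ht⟩, fun {_} => ⟨ψ, fun Ω _ _ ξ hξ => ?_⟩⟩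
    obtain ⟨t', ht', htξ⟩ := hξ
    obtain ⟨ξ', rfl⟩ := exists_factor (g i) ξ ⟨t', htξ⟩
    have e' : ξ' default = t' := (g i).isEmbedding.injective (by rw [htξ]; rfl)
    have h' := hO Ω ξ' (by rw [e']; exact hle ht')
    refine (ModuleCat.epi_iff_surjective _).1 ?_
    haveI : Epi ((EtModW.stalk Λ ξ').map ((EtModW.pull Λ (g i)).map a)) := (ModuleCat.epi_iff_surjective _).2 h'
    exact (NatIso.naturality_2 (stalkPullModIso (Λ := Λ) (g i) ξ') a) ▸
      (inferInstance : Epi (_ ≫ (EtModW.stalk Λ ξ').map ((EtModW.pull Λ (g i)).map a) ≫ _))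
  choose r W w hw hWa C hC hxC hψ using loc
  obtain ⟨S, hS⟩ := Constr24.exists_finite_subcover C hC
    (Set.eq_univ_of_forall fun x => Set.mem_iUnion.2 ⟨x, hxC x⟩)
  let A := Σ x : S, Fin (r x.1)
  let ε := (Fintype.equivFin A).symm
  refine ⟨_, fun k => W (ε k).1.1 (ε k).2, fun k => w (ε k).1.1 (ε k).2, fun k => hw _ _, fun k => hWa _ _,
    fun {_} => ?_⟩
  haveI := hw
  haveI : ∀ x k, EtShriek.JCont (w x k) := fun x k => EtStalk.jCont (w x k)
  choose ψ hψ' using fun x => @hψ x inferInstance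
  let Φ := Sigma.desc fun k => ψ (ε k).1.1 (ε k).2
  refine ⟨Φ, Preadditive.epi_of_cancel_zero _ fun {G} f hf => hom_eq_zero_of_stalk f fun x => ?_⟩
  obtain ⟨x', hx', hxC'⟩ := Set.mem_iUnion₂.1 (hS.ge (Set.mem_univ x))
  have hsur := hψ' x' _ (EtStalk.geomPt X x) (by rw [EtStalk.geomPt_default]; exact hxC')
  haveI : Epi ((EtModW.stalk Λ (EtStalk.geomPt X x)).map (Sigma.desc (ψ x') ≫ π)) :=
    (ModuleCat.epi_iff_surjective _).2 hsur
  have hfac : Sigma.desc (ψ x') ≫ π ≫ f = 0 := by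
    refine Sigma.hom_ext _ _ fun k => ?_
    have hk : ∀ (i : Fin (Fintype.card A)) (z : A), ε i = z → ψ z.1.1 z.2 ≫ π ≫ f = 0 := by
      rintro i _ rfl
      have := congrArg (Sigma.ι (fun k => (EtSix.extZeroMod Λ (w (ε k).1.1 (ε k).2)).obj
        (EtSix.constΛ Λ (W (ε k).1.1 (ε k).2))) i ≫ ·) hf
      simpa [Φ, Category.assoc] using this
    rw [Sigma.ι_desc_assoc, comp_zero]
    exact hk (ε.symm ⟨⟨x', hx'⟩, k⟩) ⟨⟨x', hx'⟩, k⟩ (ε.apply_symm_apply _)
  rw [← cancel_epi ((EtModW.stalk Λ (EtStalk.geomPt X x)).map (Sigma.desc (ψ x') ≫ π)), ← Functor.map_comp,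
    Category.assoc, hfac, Functor.map_zero, comp_zero]

end Groth.Agent.ModGen6
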